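import Cfsg.Agent.Lib.Spinor.Gen
import Cfsg.Agent.Lib.Spinor.Classify
import Cfsg.Prelude.Def_SporadicB
import Mathlib

/-!
The reflections of a non-degenerate quadratic space over the field with two elements.
-/

set_option autoImplicit false

namespace Cfsg.Agent.ThreeTransp

open Cfsg.Agent.FormsLib Cfsg.Agent.Spinor

/-- Involutions `g`, `h` with `g h g = h g h` have product of order dividing three. -/
theorem cube_of_braid {G : Type*} [Group G] {g h : G} (hg : g * g = 1) (hh : h * h = 1)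
    (e : g * h * g = h * g * h) : (g * h) ^ 3 = 1 := by
  calc (g * h) ^ 3 = (g * h * g) * (h * g * h) := by rw [pow_succ, pow_two]; group
    _ = (g * h * g) * (g * h * g) := by rw [e]
    _ = g * h * (g * g) * h * g := by group
    _ = g * (h * h) * g := by rw [hg, mul_one]; group
    _ = 1 := by rw [hh, mul_one, hg]

theorem two_cases : ∀ x : ZMod 2, x = 0 ∨ x = 1 := by decide

variable {ι : Type} [Fintype ι] [DecidableEq ι] {Q : QuadraticForm (ZMod 2) (ι → ZMod 2)}
  (hQ : (QuadraticMap.polarBilin Q).Nondegenerate)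

theorem eq_one_of_ne {x : ZMod 2} (h : x ≠ 0) : x = 1 := (two_cases x).resolve_left h

theorem neg_id (v : ι → ZMod 2) : -v = v := funext fun i => by
  rcases two_cases (v i) with h | h <;> simp [h]

omit [Fintype ι] [DecidableEq ι] in
theorem polar_self_zero (v : ι → ZMod 2) : QuadraticMap.polar Q v v = 0 := by
  rw [polar_self', show (2 : ZMod 2) = 0 from rfl, zero_mul]

theorem refl_apply' {v : ι → ZMod 2} (hv : Q v ≠ 0) (x : ι → ZMod 2) :
    refl Q v hv x = x + QuadraticMap.polar Q x v • v := by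
  rw [refl_apply, eq_one_of_ne hv, inv_one, one_mul, sub_eq_add_neg, neg_id]

include hQ

theorem polar_exists {v : ι → ZMod 2} (hv : v ≠ 0) : ∃ y, QuadraticMap.polar Q v y = 1 := by
  by_contra h
  push Not at h
  exact hv (hQ.1 v fun y => (two_cases _).resolve_right (h y))

theorem rk_refl {v : ι → ZMod 2} (hv : Q v ≠ 0) : rk (refl Q v hv) = 1 := by
  have hv0 : v ≠ 0 := fun h => hv (by rw [h]; exact QuadraticMap.map_zero Q)
  have hmv : mov (refl Q v hv) = Submodule.span (ZMod 2) {v} := by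
    refine le_antisymm ?_ ?_
    · intro u hu
      obtain ⟨y, rfl⟩ := mem_mov.1 hu
      rw [refl_apply', add_sub_cancel_left]
      exact Submodule.smul_mem _ _ (Submodule.mem_span_singleton_self v)
    · rw [Submodule.span_singleton_le_iff_mem]
      obtain ⟨y, hy⟩ := polar_exists hQ hv0
      refine mem_mov.2 ⟨y, ?_⟩
      rw [refl_apply', add_sub_cancel_left, QuadraticMap.polar_comm, hy, one_smul]
  rw [rk, hmv, finrank_span_singleton hv0]

theorem mem_iff (g : Cfsg.isometryGroup (ZMod 2) ⇑Q) :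
    ((g : GL ι (ZMod 2)).1 - 1).rank = 1 ↔ ∃ (v : ι → ZMod 2) (hv : Q v ≠ 0), oEquiv Q g = oRefl Q v hv := by
  have hr : ((g : GL ι (ZMod 2)).1 - 1).rank = rk (oEquiv Q g).1 := by
    have e : ((g : GL ι (ZMod 2)).1 - 1).mulVecLin =
        ((oEquiv Q g).1 : (ι → ZMod 2) →ₗ[ZMod 2] (ι → ZMod 2)) - LinearMap.id :=
      LinearMap.ext fun x => by
        show ((g : GL ι (ZMod 2)).1 - 1).mulVec x = (oEquiv Q g).1 x - x
        rw [oEquiv_apply, Matrix.sub_mulVec, Matrix.one_mulVec]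
    rw [Matrix.rank, e]
    rfl
  rw [hr]
  constructor
  · intro h
    by_cases hs : ∃ u ∈ mov (oEquiv Q g).1, Q u ≠ 0
    · obtain ⟨u, hu, hQu⟩ := hs
      have h1 := rk_mul_refl_of_mem (oEquiv Q g).2 hQu hu
      have h0 : rk ((oEquiv Q g).1 * refl Q u hQu) = 0 := by omega
      refine ⟨u, hQu, Subtype.ext ?_⟩
      have h2 := mul_eq_one_iff_eq_inv.1 (eq_one_of_rk_eq_zero h0)
      rw [refl_inv] at h2
      exact h2
    · push Not at hs
      exact absurd h (not_rk_eq_one (oEquiv Q g).2 hQ hs)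
  · rintro ⟨v, hv, he⟩
    rw [he]
    exact rk_refl hQ hv

theorem exists_link (hd : 6 ≤ Fintype.card ι) {x y : ι → ZMod 2} (hx : Q x ≠ 0) (hy : Q y ≠ 0)
    (hxy : QuadraticMap.polar Q x y = 0) (hne : x ≠ y) :
    ∃ z, Q z ≠ 0 ∧ QuadraticMap.polar Q x z = 1 ∧ QuadraticMap.polar Q y z = 1 := by
  have hx0 : x ≠ 0 := fun h => hx (by rw [h]; exact QuadraticMap.map_zero Q)
  have hy0 : y ≠ 0 := fun h => hy (by rw [h]; exact QuadraticMap.map_zero Q)
  set B : LinearMap.BilinForm (ZMod 2) (ι → ZMod 2) := QuadraticMap.polarBilin Q with hB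
  -- a vector pairing to one with both
  obtain ⟨z₀, hz₁, hz₂⟩ : ∃ z, B x z = 1 ∧ B y z = 1 := by
    obtain ⟨u, hu⟩ := polar_exists hQ (show x + y ≠ 0 by rwa [Ne, add_eq_zero_iff_eq_neg, neg_id])
    rw [QuadraticMap.polar_add_left] at hu
    obtain ⟨a, ha⟩ := polar_exists hQ hx0
    obtain ⟨b, hb⟩ := polar_exists hQ hy0
    simp only [hB, QuadraticMap.polarBilin_apply_apply]
    rcases two_cases (QuadraticMap.polar Q y a) with h | h
    · rcases two_cases (QuadraticMap.polar Q x b) with h' | h'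
      · exact ⟨a + b, by rw [QuadraticMap.polar_add_right, ha, h']; rfl,
          by rw [QuadraticMap.polar_add_right, hb, h]; rfl⟩
      · exact ⟨b, h', hb⟩
    · exact ⟨a, ha, h⟩
  set W : Submodule (ZMod 2) (ι → ZMod 2) := LinearMap.ker (B x) ⊓ LinearMap.ker (B y) with hW
  have hWdim : 4 ≤ Module.finrank (ZMod 2) W := by
    have h1 := LinearMap.finrank_range_add_finrank_ker (B x)
    have h2 := Submodule.finrank_le (LinearMap.range (B x))
    have h3 : Module.finrank (ZMod 2) (LinearMap.ker (B x)) ≤ Module.finrank (ZMod 2) W + 1 := by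
      by_cases h : LinearMap.ker (B x) ≤ LinearMap.ker (B y)
      · rw [hW, inf_eq_left.2 h]; omega
      · rw [hW, finrank_inf_ker h]
    rw [Module.finrank_pi] at h1
    rw [Module.finrank_self] at h2
    omega
  -- two vectors of `W` with product one
  obtain ⟨w₁, hw₁, w₂, hw₂, hw⟩ : ∃ w₁ ∈ W, ∃ w₂ ∈ W, B w₁ w₂ = 1 := by
    by_contra hc
    push Not at hc
    have hle : W ≤ LinearMap.BilinForm.orthogonal B W := fun v hv u hu =>
      (two_cases _).resolve_right (hc u hu v hv)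
    have h1 := Submodule.finrank_mono hle
    have h2 := finrank_split (Q := Q) hQ (W := W)
    rw [← hB, Module.finrank_pi] at h2
    have h3 := LinearMap.finrank_range_add_finrank_ker (B x)
    have h4 : Module.finrank (ZMod 2) (LinearMap.ker (B x)) ≤ Module.finrank (ZMod 2) W + 1 := by
      by_cases h : LinearMap.ker (B x) ≤ LinearMap.ker (B y)
      · rw [hW, inf_eq_left.2 h]; omega
      · rw [hW, finrank_inf_ker h]
    have h5 := Submodule.finrank_le (LinearMap.range (B x))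
    rw [Module.finrank_pi] at h3
    rw [Module.finrank_self] at h5
    omega
  have hmem : ∀ w ∈ W, QuadraticMap.polar Q x w = 0 ∧ QuadraticMap.polar Q y w = 0 :=
    fun w hw => ⟨hw.1, hw.2⟩
  obtain ⟨w, hwW, hwQ⟩ : ∃ w ∈ W, Q (z₀ + w) ≠ 0 := by
    by_contra hc
    push Not at hc
    have e0 := hc 0 (zero_mem _)
    have e1 := hc w₁ hw₁
    have e2 := hc w₂ hw₂
    have e12 := hc (w₁ + w₂) (add_mem hw₁ hw₂)
    rw [add_zero] at e0
    rw [quad_add, e0] at e1 e2 e12
    rw [quad_add, QuadraticMap.polar_add_right] at e12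
    have hw' : QuadraticMap.polar Q w₁ w₂ = 1 := hw
    rw [hw'] at e12
    exact one_ne_zero (show (1 : ZMod 2) = 0 by linear_combination e12 - e1 - e2)
  refine ⟨z₀ + w, hwQ, ?_, ?_⟩
  · rw [QuadraticMap.polar_add_right, (hmem w hwW).1, add_zero]; exact hz₁
  · rw [QuadraticMap.polar_add_right, (hmem w hwW).2, add_zero]; exact hz₂

/-- The reflections form a generating class of 3-transpositions. -/
theorem orth_class {Qc : (ι → ZMod 2) → ZMod 2} (hQc : ⇑Q = Qc) (hd : 6 ≤ Fintype.card ι) :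
    Cfsg.IsThreeTranspositionClass
      {g : ↥(Cfsg.isometryGroup (ZMod 2) Qc) | ((g : GL ι (ZMod 2)).1 - 1).rank = 1} := by
  subst hQc
  set D : Set ↥(Cfsg.isometryGroup (ZMod 2) ⇑Q) := {g | ((g : GL ι (ZMod 2)).1 - 1).rank = 1}
  set Φ := oEquiv Q
  have hmem : ∀ g, g ∈ D ↔ ∃ (v : ι → ZMod 2) (hv : Q v ≠ 0), Φ g = oRefl Q v hv := mem_iff hQ
  let ρ : ∀ v, Q v ≠ 0 → ↥(Cfsg.isometryGroup (ZMod 2) ⇑Q) := fun v hv => Φ.symm (oRefl Q v hv)
  have hρ : ∀ v hv, ρ v hv ∈ D := fun v hv => (hmem _).2 ⟨v, hv, Φ.apply_symm_apply _⟩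
  have hD : ∀ g ∈ D, ∃ (v : ι → ZMod 2) (hv : Q v ≠ 0), g = ρ v hv := fun g hg => by
    obtain ⟨v, hv, e⟩ := (hmem g).1 hg
    exact ⟨v, hv, by simp only [ρ, ← e, MulEquiv.symm_apply_apply]⟩
  have hcongr : ∀ v w hv hw, v = w → ρ v hv = ρ w hw := fun v w hv hw e => by subst e; rfl
  have hsq : ∀ v hv, ρ v hv * ρ v hv = 1 := fun v hv => Φ.injective (Subtype.ext (by
    simp only [ρ, map_mul, map_one, MulEquiv.apply_symm_apply]
    exact refl_mul_self Q hv))
  have hinv : ∀ v hv, (ρ v hv)⁻¹ = ρ v hv := fun v hv => inv_eq_of_mul_eq_one_right (hsq v hv)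
  have hconj : ∀ c v hv, c * ρ v hv * c⁻¹ =
      ρ ((Φ c).1 v) (by rw [(Φ c).2 v]; exact hv) := fun c v hv => Φ.injective (Subtype.ext (by
    simp only [ρ, map_mul, map_inv, MulEquiv.apply_symm_apply]
    exact refl_conj Q hv (Φ c).2))
  have hval : ∀ v hv, (Φ (ρ v hv)).1 = refl Q v hv := fun v hv => by
    simp only [ρ, MulEquiv.apply_symm_apply]; rfl
  -- reflections with product one are conjugate
  have hbraid : ∀ v hv w hw, QuadraticMap.polar Q w v = 1 →
      ρ v hv * ρ w hw * (ρ v hv)⁻¹ = ρ w hw * ρ v hv * (ρ w hw)⁻¹ := by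
    intro v hv w hw h
    rw [hconj, hconj]
    refine hcongr _ _ _ _ ?_
    rw [hval, hval, refl_apply', refl_apply', h, QuadraticMap.polar_comm, h, one_smul, one_smul, add_comm]
  have hstep : ∀ v hv w hw, QuadraticMap.polar Q w v = 1 → IsConj (ρ v hv) (ρ w hw) := by
    intro v hv w hw h
    have hb := hbraid v hv w hw h
    refine isConj_iff.2 ⟨ρ v hv * ρ w hw, ?_⟩
    rw [mul_inv_rev]
    calc ρ v hv * ρ w hw * ρ v hv * ((ρ w hw)⁻¹ * (ρ v hv)⁻¹)
        = ρ v hv * (ρ w hw * ρ v hv * (ρ w hw)⁻¹) * (ρ v hv)⁻¹ := by group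
      _ = ρ v hv * (ρ v hv * ρ w hw * (ρ v hv)⁻¹) * (ρ v hv)⁻¹ := by rw [hb]
      _ = (ρ v hv * ρ v hv) * ρ w hw * ((ρ v hv)⁻¹ * (ρ v hv)⁻¹) := by group
      _ = ρ w hw := by rw [← mul_inv_rev, hsq, inv_one, one_mul, mul_one]
  refine ⟨⟨fun g hg => ?_, fun g hg h hh => ?_⟩, ?_, ?_⟩
  · obtain ⟨v, hv, rfl⟩ := hD g hg
    refine orderOf_eq_prime (by rw [pow_two]; exact hsq v hv) fun e => ?_
    have h1 := congrArg (fun x => rk (Φ x).1) e
    simp only [hval, map_one, Subgroup.coe_one, rk_one, rk_refl hQ hv, one_ne_zero] at h1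
  · obtain ⟨v, hv, rfl⟩ := hD g hg
    obtain ⟨w, hw, rfl⟩ := hD h hh
    rcases two_cases (QuadraticMap.polar Q w v) with e | e
    · left
      have hc : ρ v hv * ρ w hw * (ρ v hv)⁻¹ = ρ w hw := by
        rw [hconj]
        exact hcongr _ _ _ _ (by rw [hval, refl_apply', e, zero_smul, add_zero])
      calc (ρ v hv * ρ w hw) ^ 2 = (ρ v hv * ρ w hw * (ρ v hv)⁻¹) * (ρ v hv * ρ v hv) * ρ w hw := by
            rw [pow_two]; group
        _ = 1 := by rw [hc, hsq, mul_one, hsq]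
    · right
      refine cube_of_braid (hsq v hv) (hsq w hw) ?_
      simpa only [hinv] using hbraid v hv w hw e
  · haveI : Nonempty ι := Fintype.card_pos_iff.1 (by omega)
    obtain ⟨v₀, hv₀⟩ := exists_nonsingular' (Q := Q) hQ
    refine ⟨ρ v₀ hv₀, hρ v₀ hv₀, Set.ext fun g => ⟨fun hg => ?_, fun hg => ?_⟩⟩
    · obtain ⟨w, hw, rfl⟩ := hD g hg
      show IsConj (ρ v₀ hv₀) (ρ w hw)
      rcases two_cases (QuadraticMap.polar Q w v₀) with e | e
      · by_cases he : v₀ = w
        · rw [hcongr v₀ w hv₀ hw he]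
        · obtain ⟨z, hz, h1, h2⟩ := exists_link hQ hd hv₀ hw (by rw [QuadraticMap.polar_comm, e]) he
          exact (hstep v₀ hv₀ z hz (by rw [QuadraticMap.polar_comm, h1])).trans
            (hstep z hz w hw h2)
      · exact hstep v₀ hv₀ w hw e
    · obtain ⟨c, rfl⟩ := isConj_iff.1 hg
      rw [hconj]
      exact hρ _ _
  · rw [eq_top_iff]
    intro g _
    have h : reflGroup Q ≤ (Subgroup.closure D).map Φ.toMonoidHom := by
      rw [reflGroup, Subgroup.closure_le]
      rintro _ ⟨v, hv, rfl⟩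
      exact ⟨ρ v hv, Subgroup.subset_closure (hρ v hv), Φ.apply_symm_apply _⟩
    rw [reflGroup_eq_top hQ (Or.inr (by rw [Module.finrank_pi]; omega))] at h
    obtain ⟨x, hx, hxg⟩ := h (Subgroup.mem_top (Φ g))
    rwa [← Φ.injective hxg]

end Cfsg.Agent.ThreeTransp
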