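import Cfsg.Agent.Lib.AutPSU.Basic
import Cfsg.Agent.Lib.Forms.UnitaryFin
import Cfsg.Agent.Lib.ThreeTransp.Orth
import Mathlib

/-!
The transvections of a special unitary group over the field with four elements.
-/

set_option autoImplicit false
set_option linter.unusedSectionVars false

namespace Cfsg.Agent.ThreeTransp

open Matrix Cfsg.Agent.AutPSU

variable {F : Type} [Field F] [Fintype F] [DecidableEq F] [hQF : QField F 2] {n : ℕ}

local notation "V" => Fin n → F
set_option quotPrecheck false in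
local notation "SUn" => ↥(Cfsg.SU n F 2)
local notation "H" => Cfsg.hermForm n F 2
local notation "σ" => qb (F := F) 2

theorem two_eq_zero (hF : Fintype.card F = 4) : (2 : F) = 0 := by
  have h : ringChar F = 2 := FiniteField.even_card_iff_char_two.2 (by rw [hF])
  have := ringChar.Nat.cast_ringChar (R := F)
  rw [h] at this
  exact_mod_cast this

theorem skew_eq_one (hF : Fintype.card F = 4) {t : F} (ht : t ≠ 0) (h : t + σ t = 0) : t = 1 := by
  rw [qb_apply] at h
  have h' : t * (t - 1) = 0 := by linear_combination h - t * two_eq_zero hF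
  exact sub_eq_zero.1 ((mul_eq_zero.1 h').resolve_left ht)

theorem isT_one (hF : Fintype.card F = 4) {x : V} (hx : H x x = 0) : IsT 2 x (1 : F) :=
  ⟨hx, by rw [map_one, one_add_one_eq_two, two_eq_zero hF]⟩

/-- An element whose difference from one is a line with a given spanning vector. -/
theorem rank_of_form {g : SUn} {x : V} (hx : x ≠ 0) {c : F} (hc : c ≠ 0)
    (h : ∀ v, AutPSU.app g v = v + (c * H v x) • x) :
    (((g : Matrix.SpecialLinearGroup (Fin n) F) : Matrix (Fin n) (Fin n) F) - 1).rank = 1 := by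
  rw [Matrix.rank]
  have hr : LinearMap.range (((g : Matrix.SpecialLinearGroup (Fin n) F) : Matrix (Fin n) (Fin n) F) - 1).mulVecLin =
      Submodule.span F {x} := by
    have hl : ∀ v, (((g : Matrix.SpecialLinearGroup (Fin n) F) : Matrix (Fin n) (Fin n) F) - 1).mulVecLin v =
        (c * H v x) • x := fun v => by
      rw [Matrix.mulVecLin_apply, Matrix.sub_mulVec, Matrix.one_mulVec]
      exact sub_eq_of_eq_add' (h v)
    refine le_antisymm ?_ ?_
    · rintro _ ⟨v, rfl⟩
      rw [hl]
      exact Submodule.smul_mem _ _ (Submodule.mem_span_singleton_self x)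
    · rw [Submodule.span_singleton_le_iff_mem]
      obtain ⟨w, hw⟩ := exists_H_eq_one (q := 2) hx
      exact ⟨c⁻¹ • w, by rw [hl, H_smul_left, hw, mul_one, mul_inv_cancel₀ hc, one_smul]⟩
  rw [hr, finrank_span_singleton hx]

theorem unitary_mem_iff (hF : Fintype.card F = 4) (g : SUn) :
    (((g : Matrix.SpecialLinearGroup (Fin n) F) : Matrix (Fin n) (Fin n) F) - 1).rank = 1 ↔
      ∃ (x : V) (hx : H x x = 0), x ≠ 0 ∧ g = tr x 1 (isT_one hF hx) := by
  constructor
  · intro h
    set M := ((g : Matrix.SpecialLinearGroup (Fin n) F) : Matrix (Fin n) (Fin n) F) with hM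
    rw [Matrix.rank] at h
    obtain ⟨⟨u, hu⟩, hu0, hspan⟩ := finrank_eq_one_iff'.1 h
    have hu1 : u ≠ 0 := fun e => hu0 (Subtype.ext e)
    have hcol : ∀ j, ∃ a : F, (M - 1).col j = a • u := fun j => by
      obtain ⟨a, ha⟩ := hspan ⟨(M - 1).mulVecLin (Pi.single j 1), LinearMap.mem_range_self _ _⟩
      refine ⟨a, ?_⟩
      have : a • u = (M - 1) *ᵥ Pi.single j 1 := congrArg Subtype.val ha
      rw [this, Matrix.mulVec_single_one]
    choose α hα using hcol
    have hM1 : M = 1 + Matrix.replicateCol Unit u * Matrix.replicateRow Unit α := by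
      ext i j
      have := congrFun (hα j) i
      simp only [Matrix.col_apply, Matrix.sub_apply, Pi.smul_apply, smul_eq_mul] at this
      simp [Matrix.mul_apply]
      linear_combination this
    have hdet : α ⬝ᵥ u = 0 := by
      have h1 : M.det = 1 := (g : Matrix.SpecialLinearGroup (Fin n) F).2
      rw [hM1, Matrix.det_one_add_replicateCol_mul_replicateRow] at h1
      linear_combination h1
    have happ : ∀ v, AutPSU.app g v = v + (α ⬝ᵥ v) • u := fun v => by
      show M *ᵥ v = _
      rw [hM1, Matrix.add_mulVec, Matrix.one_mulVec, ← Matrix.mulVec_mulVec]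
      congr 1
      funext i
      simp [Matrix.mulVec, dotProduct, mul_comm]
    have hkey : ∀ y z, (α ⬝ᵥ y) * H u z + σ (α ⬝ᵥ z) * H y u +
        (α ⬝ᵥ y) * σ (α ⬝ᵥ z) * H u u = 0 := fun y z => by
      have h3 := app_H g y z
      rw [happ, happ] at h3
      simp only [H_add_left, H_add_right, H_smul_left, H_smul_right] at h3
      linear_combination h3
    obtain ⟨y₀, hy₀⟩ : ∃ y, α ⬝ᵥ y ≠ 0 := by
      by_contra hc
      push Not at hc
      obtain ⟨v, hv⟩ := LinearMap.mem_range.1 hu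
      rw [Matrix.mulVecLin_apply, Matrix.sub_mulVec, Matrix.one_mulVec,
        show M *ᵥ v = AutPSU.app g v from rfl, happ, hc, zero_smul, add_zero, sub_self] at hv
      exact hu1 hv.symm
    have huu : H u u = 0 := by
      have h1 := hkey y₀ u
      rw [hdet, map_zero, zero_mul, mul_zero, zero_mul, add_zero, add_zero] at h1
      exact (mul_eq_zero.1 h1).resolve_left hy₀
    obtain ⟨w, hw⟩ := exists_H_eq_one (q := 2) hu1
    have hw' : H u w = 1 := by rw [← H_flip w u, hw, map_one]
    set t := α ⬝ᵥ w with ht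
    have ht' : t + σ t = 0 := by
      have h1 := hkey w w
      rw [huu, hw, hw', mul_one, mul_one, mul_zero, add_zero] at h1
      exact h1
    have hall : ∀ y, α ⬝ᵥ y = t * H y u := fun y => by
      have h1 := hkey y w
      rw [huu, hw', mul_one, mul_zero, add_zero] at h1
      linear_combination h1 - (H y u) * ht'
    have ht0 : t ≠ 0 := fun e => hy₀ (by rw [hall, e, zero_mul])
    refine ⟨u, huu, hu1, su_ext fun v => ?_⟩
    show AutPSU.app g v = AutPSU.app (tr u 1 (isT_one hF huu)) v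
    rw [happ, tr_apply, hall, skew_eq_one hF ht0 ht']
  · rintro ⟨x, hx, hx0, rfl⟩
    exact rank_of_form hx0 one_ne_zero fun v => tr_apply x 1 _ v

/-- The transvections form a generating class of 3-transpositions. -/
theorem unitary_class (hF : Fintype.card F = 4) (hn : 4 ≤ n) :
    Cfsg.IsThreeTranspositionClass {g : SUn |
      (((g : Matrix.SpecialLinearGroup (Fin n) F) : Matrix (Fin n) (Fin n) F) - 1).rank = 1} := by
  set D : Set SUn := {g : SUn |
    (((g : Matrix.SpecialLinearGroup (Fin n) F) : Matrix (Fin n) (Fin n) F) - 1).rank = 1}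
  have h2 := two_eq_zero hF
  let ρ : ∀ x : V, H x x = 0 → SUn := fun x hx => tr x 1 (isT_one hF hx)
  have hρ : ∀ (x : V) (hx : H x x = 0), x ≠ 0 → ρ x hx ∈ D := fun x hx h0 =>
    (unitary_mem_iff hF _).2 ⟨x, hx, h0, rfl⟩
  have hD : ∀ g ∈ D, ∃ (x : V) (hx : H x x = 0), x ≠ 0 ∧ g = ρ x hx := fun g hg =>
    (unitary_mem_iff hF g).1 hg
  have hcongr : ∀ (x y : V) (hx : H x x = 0) (hy : H y y = 0), x = y → ρ x hx = ρ y hy :=
    fun x y hx hy e => by subst e; rfl
  have happ : ∀ (x : V) (hx : H x x = 0) (v : V), AutPSU.app (ρ x hx) v = v + H v x • x :=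
    fun x hx v => by simp [ρ]
  have hconj : ∀ (c : SUn) (x : V) (hx : H x x = 0),
      c * ρ x hx * c⁻¹ = ρ (AutPSU.app c x) (by rw [app_H]; exact hx) :=
    fun c x hx => tr_conj c _
  have hne : ∀ (x : V) (hx : H x x = 0), x ≠ 0 → ρ x hx ≠ 1 := fun x hx h0 =>
    tr_ne_one h0 _ one_ne_zero
  clear_value ρ
  have hone : ∀ a : F, a ≠ 0 → a * σ a = 1 := fun a ha => by
    rw [qb_apply, ← pow_succ', show 2 + 1 = Fintype.card F - 1 by omega, FiniteField.pow_card_sub_one_eq_one a ha]
  have hsmul : ∀ (x : V) (hx : H x x = 0) (a : F) (hax : H (a • x) (a • x) = 0),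
      a ≠ 0 → ρ (a • x) hax = ρ x hx := fun x hx a hax ha => su_ext fun v => by
    show AutPSU.app (ρ (a • x) hax) v = AutPSU.app (ρ x hx) v
    rw [happ, happ, H_smul_right, smul_smul]
    congr 2
    linear_combination (H v x) * hone a ha
  have hsq : ∀ (x : V) (hx : H x x = 0), ρ x hx * ρ x hx = 1 := fun x hx => su_ext fun v => by
    show AutPSU.app (ρ x hx * ρ x hx) v = AutPSU.app (1 : SUn) v
    rw [app_mul, app_one, happ, happ, H_add_left, H_smul_left, hx, mul_zero, add_zero, add_assoc,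
      ← add_smul, ← two_mul, h2, zero_mul, zero_smul, add_zero]
  have hinv : ∀ (x : V) (hx : H x x = 0), (ρ x hx)⁻¹ = ρ x hx := fun x hx => inv_eq_of_mul_eq_one_right (hsq x hx)
  have hbraid : ∀ (x : V) (hx : H x x = 0) (y : V) (hy : H y y = 0), H x y ≠ 0 →
      ρ x hx * ρ y hy * (ρ x hx)⁻¹ = ρ y hy * ρ x hx * (ρ y hy)⁻¹ := by
    intro x hx y hy h
    have h' : H y x ≠ 0 := fun e => h (H_eq_zero_comm.1 e)
    rw [hconj, hconj]
    have e1 : AutPSU.app (ρ y hy) x = (H x y) • AutPSU.app (ρ x hx) y := by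
      rw [happ, happ, smul_add, smul_smul, ← H_flip x y, hone _ h, one_smul, add_comm]
    have e3 : H (AutPSU.app (ρ x hx) y) (AutPSU.app (ρ x hx) y) = 0 := by rw [app_H]; exact hy
    have e2 : H (H x y • AutPSU.app (ρ x hx) y) (H x y • AutPSU.app (ρ x hx) y) = 0 := by
      rw [H_smul_left, H_smul_right, e3, mul_zero, mul_zero]
    have e4 : H (AutPSU.app (ρ y hy) x) (AutPSU.app (ρ y hy) x) = 0 := by rw [app_H]; exact hx
    exact ((hcongr _ _ e4 e2 e1).trans (hsmul _ e3 _ e2 h)).symm
  have hstep : ∀ (x : V) (hx : H x x = 0) (y : V) (hy : H y y = 0), H x y ≠ 0 → IsConj (ρ x hx) (ρ y hy) := by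
    intro x hx y hy h
    have hb := hbraid x hx y hy h
    refine isConj_iff.2 ⟨ρ x hx * ρ y hy, ?_⟩
    rw [_root_.mul_inv_rev]
    calc ρ x hx * ρ y hy * ρ x hx * ((ρ y hy)⁻¹ * (ρ x hx)⁻¹)
        = ρ x hx * (ρ y hy * ρ x hx * (ρ y hy)⁻¹) * (ρ x hx)⁻¹ := by group
      _ = ρ x hx * (ρ x hx * ρ y hy * (ρ x hx)⁻¹) * (ρ x hx)⁻¹ := by rw [hb]
      _ = (ρ x hx * ρ x hx) * ρ y hy * ((ρ x hx)⁻¹ * (ρ x hx)⁻¹) := by group
      _ = ρ y hy := by rw [← _root_.mul_inv_rev, hsq, inv_one, one_mul, mul_one]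
  have hclass : ∀ (x : V) (hx : H x x = 0) (y : V) (hy : H y y = 0), x ≠ 0 → y ≠ 0 → IsConj (ρ x hx) (ρ y hy) := by
    intro x hx y hy hx0 hy0
    by_cases h : H x y = 0
    · by_cases hdep : ∃ a : F, y = a • x
      · obtain ⟨a, rfl⟩ := hdep
        rw [hsmul x hx a hy fun e => hy0 (by rw [e, zero_smul])]
      · have hdep' : ¬ ∃ a : F, x = a • y := fun ⟨a, ha⟩ => hdep ⟨a⁻¹, by
          rw [ha, smul_smul, inv_mul_cancel₀ (fun e : a = 0 => hx0 (by rw [ha, e, zero_smul])), one_smul]⟩
        obtain ⟨w₁, hw₁, hw₁'⟩ : ∃ w, H w x = 0 ∧ H w y ≠ 0 := by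
          by_contra hc
          push Not at hc
          exact hdep (exists_smul_of_orth hc)
        obtain ⟨w₂, hw₂, hw₂'⟩ : ∃ w, H w y = 0 ∧ H w x ≠ 0 := by
          by_contra hc
          push Not at hc
          exact hdep' (exists_smul_of_orth hc)
        set w := (H w₁ y)⁻¹ • w₁ + (H w₂ x)⁻¹ • w₂ with hwdef
        have hwx : H w x = 1 := by simp [hwdef, hw₁, inv_mul_cancel₀ hw₂']
        have hwy : H w y = 1 := by simp [hwdef, hw₂, inv_mul_cancel₀ hw₁']
        obtain ⟨s, hs⟩ := exists_trace (F := F) (q := 2) (c := H w w) (H_self_fixed w)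
        set z := w - s • x with hz
        have hxw : H x w = 1 := by rw [← H_flip w x, hwx, map_one]
        have hzz : H z z = 0 := by
          simp [hz, hx, hwx, hxw]
          linear_combination -hs
        have hzx : H z x = 1 := by simp [hz, hx, hwx]
        have hzy : H z y = 1 := by simp [hz, h, hwy]
        exact (hstep x hx z hzz (fun e => one_ne_zero (hzx.symm.trans (H_eq_zero_comm.1 e)))).trans
          (hstep z hzz y hy (by rw [hzy]; exact one_ne_zero))
    · exact hstep x hx y hy h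
  refine ⟨⟨fun g hg => ?_, fun g hg h hh => ?_⟩, ?_, ?_⟩
  · obtain ⟨x, hx, hx0, rfl⟩ := hD g hg
    exact orderOf_eq_prime (by rw [pow_two]; exact hsq x hx) (hne x hx hx0)
  · obtain ⟨x, hx, hx0, rfl⟩ := hD g hg
    obtain ⟨y, hy, hy0, rfl⟩ := hD h hh
    by_cases e : H x y = 0
    · left
      have hc : ρ x hx * ρ y hy * (ρ x hx)⁻¹ = ρ y hy := by
        rw [hconj]
        exact hcongr _ _ _ _ (by rw [happ, H_eq_zero_comm.1 e, zero_smul, add_zero])
      calc (ρ x hx * ρ y hy) ^ 2 = (ρ x hx * ρ y hy * (ρ x hx)⁻¹) * (ρ x hx * ρ x hx) * ρ y hy := by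
            rw [pow_two]; group
        _ = 1 := by rw [hc, hsq, mul_one, hsq]
    · right
      refine cube_of_braid (hsq x hx) (hsq y hy) ?_
      simpa only [hinv] using hbraid x hx y hy e
  · obtain ⟨x, hx, hx0⟩ : ∃ x : V, H x x = 0 ∧ x ≠ 0 := by
      let i : Fin n := ⟨0, by omega⟩
      let j : Fin n := ⟨1, by omega⟩
      have hij : i ≠ j := fun h => by simp [i, j, Fin.ext_iff] at h
      refine ⟨Pi.single i 1 + Pi.single j 1, ?_, fun e => one_ne_zero (α := F) ?_⟩
      · simp [H_eq, Pi.single_apply, add_mul, Finset.sum_add_distrib, hij, hij.symm, one_add_one_eq_two, h2]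
      · simpa [Pi.single_apply, hij] using congrFun e i
    refine ⟨ρ x hx, hρ x hx hx0, Set.ext fun g => ⟨fun hg => ?_, fun hg => ?_⟩⟩
    · obtain ⟨y, hy, hy0, rfl⟩ := hD g hg
      exact hclass x hx y hy hx0 hy0
    · obtain ⟨c, rfl⟩ := isConj_iff.1 hg
      rw [hconj]
      exact hρ _ _ fun e => hx0 (app_injective c (e.trans (app_zero c).symm))
  · rw [eq_top_iff, ← FormsLib.closure_unitaryTransvection (F := F) (q := 2) (by rw [hF]; norm_num) n
      (by omega), Subgroup.closure_le]
    rintro A ⟨v, c, hv, hA⟩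
    by_cases h0 : v = 0 ∨ c = 0
    · have : A = 1 := Subtype.ext (Subtype.ext (by
        show ((A : Matrix.SpecialLinearGroup (Fin n) F) : Matrix (Fin n) (Fin n) F) = 1
        rw [hA]
        rcases h0 with rfl | rfl <;> ext i j <;> simp [Cfsg.unitaryTransvection, Matrix.vecMulVec]))
      rw [this]
      exact one_mem _
    push Not at h0
    refine Subgroup.subset_closure (rank_of_form h0.1 h0.2 fun y => ?_)
    show ((A : Matrix.SpecialLinearGroup (Fin n) F) : Matrix (Fin n) (Fin n) F) *ᵥ y = _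
    rw [hA, Cfsg.unitaryTransvection, Matrix.add_mulVec, Matrix.one_mulVec, Matrix.smul_mulVec,
      Matrix.vecMulVec_mulVec, op_smul_eq_smul, smul_smul]
    congr 2
    simp [H_def, dotProduct, mul_comm]

end Cfsg.Agent.ThreeTransp
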